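import Mathlib.Algebra.TrivSqZeroExt.Basic
import Mathlib.RingTheory.Derivation.Basic
import Mathlib.Algebra.Algebra.Bilinear
import Mathlib.LinearAlgebra.Finsupp.LSum

/-!
Derivations of a ring of differential operators.
-/

set_option autoImplicit false

universe u v w x

namespace Groth.Agent.DefMod85.DiffOp

variable {K : Type u} [Field K] {O : Type v} [CommRing O] [Algebra K O] (δ : Derivation K O O)
  {D : Type w} [Ring D] [Algebra K D] (ι : O →ₐ[K] D) (d : D)

theorem induct (hbasis : Function.Bijective (fun c : ℕ →₀ O => c.sum (fun i f => ι f * d ^ i)))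
    {motive : D → Prop} (h0 : motive 0) (hadd : ∀ a b, motive a → motive b → motive (a + b))
    (h : ∀ f i, motive (ι f * d ^ i)) (P : D) : motive P := by
  obtain ⟨c, rfl⟩ := hbasis.2 P
  induction c using Finsupp.induction_linear with
  | zero => simpa using h0
  | add a b ha hb =>
    simp only at ha hb ⊢
    rw [Finsupp.sum_add_index' (by simp) (by simp [add_mul])]
    exact hadd _ _ ha hb
  | single i f => simpa using h f i

/-- The universal property of the ring of differential operators. -/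
theorem exists_hom (hd : ∀ f : O, d * ι f = ι f * d + ι (δ f))
    (hbasis : Function.Bijective (fun c : ℕ →₀ O => c.sum (fun i f => ι f * d ^ i)))
    {B : Type x} [Ring B] [Algebra K B] (g : O →ₐ[K] B) (b : B)
    (hb : ∀ f : O, b * g f = g f * b + g (δ f)) :
    ∃ Ψ : D →ₐ[K] B, (∀ f, Ψ (ι f) = g f) ∧ Ψ d = b := by
  classical
  let L : (ℕ →₀ O) →ₗ[K] D :=
    Finsupp.lsum K fun i => (LinearMap.mulRight K (d ^ i)) ∘ₗ ι.toLinearMap
  let e : (ℕ →₀ O) ≃ₗ[K] D := LinearEquiv.ofBijective L hbasis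
  let Lb : (ℕ →₀ O) →ₗ[K] B :=
    Finsupp.lsum K fun i => (LinearMap.mulRight K (b ^ i)) ∘ₗ g.toLinearMap
  let Ψ : D →ₗ[K] B := Lb ∘ₗ e.symm.toLinearMap
  have hΨ : ∀ f i, Ψ (ι f * d ^ i) = g f * b ^ i := fun f i => by
    have h1 : ι f * d ^ i = e (Finsupp.single i f) := by simp [e, L]
    rw [h1]
    change Lb (e.symm (e _)) = _
    rw [LinearEquiv.symm_apply_apply]
    simp [Lb]
  have hι : ∀ f Q, Ψ (ι f * Q) = g f * Ψ Q := fun f Q => by
    induction Q using induct ι d hbasis with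
    | h0 => simp
    | hadd a c ha hc => rw [mul_add, map_add, ha, hc, map_add, mul_add]
    | h f' i => rw [← mul_assoc, ← map_mul, hΨ, hΨ, map_mul, mul_assoc]
  have hd' : ∀ Q, Ψ (d * Q) = b * Ψ Q := fun Q => by
    induction Q using induct ι d hbasis with
    | h0 => simp
    | hadd a c ha hc => rw [mul_add, map_add, ha, hc, map_add, mul_add]
    | h f i =>
      rw [← mul_assoc, hd, add_mul, mul_assoc, ← pow_succ', map_add, hΨ, hΨ, hΨ, pow_succ', ← mul_assoc, ← mul_assoc,
        hb, add_mul]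
  have hdi : ∀ i Q, Ψ (d ^ i * Q) = b ^ i * Ψ Q := fun i => by
    induction i with
    | zero => simp
    | succ i ih => intro Q; rw [pow_succ', mul_assoc, hd', ih, pow_succ', mul_assoc]
  have hone : Ψ 1 = 1 := by simpa using hΨ 1 0
  refine ⟨AlgHom.ofLinearMap Ψ hone fun P Q => ?_, fun f => by simpa using hΨ f 0, by simpa using hΨ 1 1⟩
  induction P using induct ι d hbasis with
  | h0 => simp
  | hadd a c ha hc => rw [add_mul, map_add, ha, hc, map_add, add_mul]
  | h f i => rw [mul_assoc, hι, hdi, hΨ, mul_assoc]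

open TrivSqZeroExt

theorem main (hd : ∀ f : O, d * ι f = ι f * d + ι (δ f))
    (hbasis : Function.Bijective (fun c : ℕ →₀ O => c.sum (fun i f => ι f * d ^ i)))
    {R : Type x} [Ring R] [Algebra K R] (ρ : D →ₐ[K] R) :
    (∀ s : D →ₗ[K] R, (∀ P Q : D, s (P * Q) = s P * ρ Q + ρ P * s Q) →
      ∀ f : O, (s (ι f) * ρ d - ρ d * s (ι f)) + (ρ (ι f) * s d - s d * ρ (ι f)) + s (ι (δ f)) = 0) ∧
    ∀ (r : O →ₗ[K] R) (v : R),
      (∀ f g : O, r (f * g) = r f * ρ (ι g) + ρ (ι f) * r g) →
      (∀ f : O, (r f * ρ d - ρ d * r f) + (ρ (ι f) * v - v * ρ (ι f)) + r (δ f) = 0) →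
      ∃! s : D →ₗ[K] R,
        (∀ P Q : D, s (P * Q) = s P * ρ Q + ρ P * s Q) ∧ s ∘ₗ ι.toLinearMap = r ∧ s d = v := by
  refine ⟨fun s hs f => ?_, fun r v hr hrv => ?_⟩
  · have h := congrArg s (hd f)
    rw [map_add, hs, hs] at h
    rw [← sub_eq_zero.2 h.symm]
    abel
  have hr1 : r 1 = 0 := by simpa using hr 1 1
  let g : O →ₐ[K] TrivSqZeroExt R R := AlgHom.ofLinearMap
    { toFun := fun f => inl (ρ (ι f)) + inr (r f)
      map_add' := fun a c => by simp only [map_add, inl_add, inr_add]; abel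
      map_smul' := fun a c => by ext <;> simp }
    (by ext <;> simp [hr1]) (fun a c => by ext <;> simp [hr, add_comm])
  have hgf : ∀ f, (g f).fst = ρ (ι f) ∧ (g f).snd = r f := fun f => by simp [g]
  obtain ⟨Ψ, hΨι, hΨd⟩ := exists_hom δ ι d hd hbasis g (inl (ρ d) + inr v) fun f => by
    ext
    · simp [hgf, ← map_mul, ← map_add, hd]
    · simp only [snd_mul, snd_add, fst_add, fst_inl, fst_inr, snd_inl, snd_inr, add_zero, zero_add, hgf,
        smul_eq_mul, MulOpposite.smul_eq_mul_unop, MulOpposite.unop_op]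
      rw [← sub_eq_zero]
      refine Eq.trans ?_ (neg_eq_zero.2 (hrv f))
      abel
  have hfst : ∀ P, (Ψ P).fst = ρ P := fun P => by
    have hι : ∀ f, (fstHom K R R).comp Ψ (ι f) = ρ (ι f) := fun f => by
      simp [hΨι, hgf]
    induction P using induct ι d hbasis with
    | h0 => simp
    | hadd a c ha hc => rw [map_add, fst_add, ha, hc, map_add]
    | h f i => simp [map_mul, map_pow, hΨι, hΨd, hgf]
  refine ⟨{ toFun := fun P => (Ψ P).snd
            map_add' := fun a c => by rw [map_add, snd_add]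
            map_smul' := fun a c => by rw [map_smul, snd_smul]; rfl }, ⟨fun P Q => ?_, ?_, ?_⟩, ?_⟩
  · change (Ψ (P * Q)).snd = (Ψ P).snd * ρ Q + ρ P * (Ψ Q).snd
    rw [map_mul, snd_mul, hfst, hfst, smul_eq_mul, MulOpposite.smul_eq_mul_unop, MulOpposite.unop_op, add_comm]
  · exact LinearMap.ext fun f => by simp [hΨι, hgf]
  · simp [hΨd]
  rintro s ⟨hs, hsι, hsd⟩
  refine LinearMap.ext fun P => ?_
  change s P = (Ψ P).snd
  have hs1 : s 1 = 0 := by simpa using hs 1 1
  have hpow : ∀ i, s (d ^ i) = (Ψ (d ^ i)).snd := fun i => by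
    induction i with
    | zero => simp [hs1]
    | succ i ih =>
      rw [pow_succ, hs, ih, hsd, map_mul, snd_mul, hfst, hfst, hΨd]
      simp [add_comm]
  induction P using induct ι d hbasis with
  | h0 => simp
  | hadd a c ha hc => rw [map_add, ha, hc, map_add, snd_add]
  | h f i =>
    rw [hs, hpow, map_mul, snd_mul, hfst, hfst, hΨι, (hgf f).2, ← hsι]
    simp [add_comm]

end Groth.Agent.DefMod85.DiffOp
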